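import Groth.Agent.EtBCBridge.Nat
import Groth.Prelude.Def_EtBCD
import Groth.Agent.RPlusComp.Unbounded
import Groth.Agent.EtCohDesc.Retract
import Mathlib

/-! The derived base change map on a single sheaf. -/

set_option autoImplicit false
set_option backward.isDefEq.respectTransparency false
set_option backward.isDefEq.respectTransparency.types false
set_option linter.style.haveILetI false
set_option linter.unusedSectionVars false
set_option linter.overlappingInstances false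
set_option maxHeartbeats 1000000

universe u

open CategoryTheory CategoryTheory.Limits AlgebraicGeometry Opposite

attribute [local instance] HasDerivedCategory.standard

noncomputable section

namespace Groth.Agent.EtBCBridge

open DerivedCategory (Qh)

abbrev qh (X : Scheme.{u}) := HomotopyCategory.quotient (EtCoh.Ab X) (ComplexShape.up ℤ)

/-- the unit of a total derived direct image -/
abbrev uR {X Y : Scheme.{u}} (f : X ⟶ Y) [DCoh.HasRpushEt X f] :=
  (DCoh.pushEtKh X f).totalRightDerivedUnit DerivedCategory.Qh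
    (HomotopyCategory.quasiIso (EtCoh.Ab X) (ComplexShape.up ℤ))

/-- the counit of exact inverse image on derived categories -/
abbrev fac {X Y : Scheme.{u}} (g : X ⟶ Y) [PreservesFiniteLimits (EtCoh.pull g)] :=
  (EtCoh.pull g).mapDerivedCategoryFactorsh

/-- an adjunction `g⁻¹ ⊣ Rg_*` compatible with the units -/
theorem exists_adj {X Y : Scheme.{u}} (g : X ⟶ Y) [PreservesFiniteLimits (EtCoh.pull g)] [DCoh.HasRpushEt X g] :
    ∃ adj : EtBC.pullD g ⊣ DCoh.RpushEt X g, ∀ M : HomotopyCategory (EtCoh.Ab X) (ComplexShape.up ℤ),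
      (EtBC.pullD g).map ((uR g).app M) ≫ adj.counit.app (Qh.obj M) =
        (fac g).hom.app (((EtCoh.push g).mapHomotopyCategory (ComplexShape.up ℤ)).obj M) ≫
          Qh.map ((KInj.mapHomotopyCategoryAdj (EtCoh.pullPushAdj g) (ComplexShape.up ℤ)).counit.app M) := by
  let W₁ := HomotopyCategory.quasiIso (EtCoh.Ab Y) (ComplexShape.up ℤ)
  let W₂ := HomotopyCategory.quasiIso (EtCoh.Ab X) (ComplexShape.up ℤ)
  let G := (EtCoh.pull g).mapHomotopyCategory (ComplexShape.up ℤ)
  let L₁ : HomotopyCategory (EtCoh.Ab Y) (ComplexShape.up ℤ) ⥤ DCoh.DEt Y := Qh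
  let L₂ : HomotopyCategory (EtCoh.Ab X) (ComplexShape.up ℤ) ⥤ DCoh.DEt X := Qh
  let G' := EtBC.pullD g
  let F' := DCoh.RpushEt X g
  let α : L₁ ⋙ G' ≅ G ⋙ L₂ := fac g
  let β : (EtCoh.push g).mapHomotopyCategory (ComplexShape.up ℤ) ⋙ L₁ ⟶ L₂ ⋙ F' := uR g
  have hG : W₁.IsInvertedBy (G ⋙ L₂) := fun A B f hf => by
    have := Localization.inverts L₁ W₁ f hf
    rw [← NatIso.naturality_1 α f]
    dsimp
    infer_instance
  haveI : G'.IsLeftDerivedFunctor α.hom W₁ :=
    (Functor.isLeftDerivedFunctor_iff_of_inverts G' α.hom hG).2 inferInstance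
  haveI : (G' ⋙ F').IsLeftDerivedFunctor
      ((Functor.associator _ _ _).inv ≫ Functor.whiskerRight α.hom F') W₁ := by
    refine (Functor.isLeftDerivedFunctor_iff_of_inverts _ _ ?_).2 inferInstance
    intro A B f hf
    have : IsIso ((G ⋙ L₂).map f) := hG f hf
    exact inferInstanceAs (IsIso (F'.map ((G ⋙ L₂).map f)))
  haveI : (F' ⋙ G').IsRightDerivedFunctor
      (Functor.whiskerRight β G' ≫ (Functor.associator _ _ _).hom) W₂ :=
    (KInj.isDeforming_Qh (RPlusComp.hKinj X) (DCoh.pushEtKh X g)).isRightDerivedFunctor_comp W₂ F' β G'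
  exact ⟨(KInj.mapHomotopyCategoryAdj (EtCoh.pullPushAdj g) (ComplexShape.up ℤ)).derived W₁ W₂ α.hom β,
    fun M => Adjunction.derivedε_fac_app _ W₂ α.hom β M⟩

theorem transpose_rep {KS KS' KX' DS DS' DX' : Type*} [Category* KS] [Category* KS'] [Category* KX'] [Category* DS]
    [Category* DS'] [Category* DX'] {G' : DS ⥤ DS'} {R : DS' ⥤ DS} (adj : G' ⊣ R) (L : KS ⥤ DS) (L' : KS' ⥤ DS')
    (G : KS ⥤ KS') (P : KS' ⥤ KS) (fc : L ⋙ G' ≅ G ⋙ L') (P' : KX' ⥤ KS') (L'' : KX' ⥤ DX') (R' : DX' ⥤ DS')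
    (u' : P' ⋙ L' ⟶ L'' ⋙ R') {A : KS} {N J : KX'} (σ : N ⟶ J) (pp : A ⟶ P.obj (P'.obj N))
    (c : G.obj (P.obj (P'.obj N)) ⟶ P'.obj N) (uM : L.obj (P.obj (P'.obj N)) ⟶ R.obj (L'.obj (P'.obj N)))
    (h0 : G'.map uM ≫ adj.counit.app (L'.obj (P'.obj N)) = fc.hom.app (P.obj (P'.obj N)) ≫ L'.map c)
    {B : DS} (u : L.obj A ⟶ B) {Y : DX'} (b : B ⟶ R.obj (R'.obj Y)) (φY : Y ⟶ L''.obj N)
    (hb : u ≫ b ≫ R.map (R'.map φY) = L.map pp ≫ uM ≫ R.map (u'.app N))
    (ψ : G.obj A ⟶ P'.obj J) (hψ : G.map pp ≫ c ≫ P'.map σ = ψ) :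
    G'.map u ≫ (adj.homEquiv _ _).symm b ≫ R'.map (φY ≫ L''.map σ) = fc.hom.app A ≫ L'.map ψ ≫ u'.app J := by
  have e : G'.map u ≫ (adj.homEquiv _ _).symm b ≫ R'.map φY =
      fc.hom.app A ≫ L'.map (G.map pp ≫ c) ≫ u'.app N := by
    rw [← adj.homEquiv_naturality_right_symm, ← adj.homEquiv_naturality_left_symm, hb, adj.homEquiv_counit,
      Functor.map_comp, Functor.map_comp, Category.assoc, Category.assoc]
    have n1 : G'.map (R.map (u'.app N)) ≫ adj.counit.app (R'.obj (L''.obj N)) =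
        adj.counit.app (L'.obj (P'.obj N)) ≫ u'.app N := adj.counit.naturality (u'.app N)
    rw [n1]
    have h := fc.hom.naturality pp
    simp only [Functor.comp_map] at h
    rw [reassoc_of% h0, reassoc_of% h, L'.map_comp, Category.assoc]
  have hn : L'.map (P'.map σ) ≫ u'.app J = u'.app N ≫ R'.map (L''.map σ) := u'.naturality σ
  rw [R'.map_comp, reassoc_of% e, ← hn, ← hψ, ← L'.map_comp_assoc, Category.assoc]

variable {X S X' S' : Scheme.{u}} (f : X ⟶ S) (g : S' ⟶ S) (f' : X' ⟶ S') (g' : X' ⟶ X)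
  (w : g' ≫ f = f' ≫ g) [PreservesFiniteLimits (EtCoh.pull g)] [PreservesFiniteLimits (EtCoh.pull g')]
  [DCoh.HasRpushEt X f] [DCoh.HasRpushEt X' f'] [DCoh.HasRpushEt S' g]

theorem bcMap_change (adj adj₀ : EtBC.pullD g ⊣ DCoh.RpushEt S' g) (K : DCoh.DEt X) :
    EtBC.bcMap f g f' g' w adj K =
      (adj.leftAdjointUniq adj₀).hom.app _ ≫ EtBC.bcMap f g f' g' w adj₀ K := by
  unfold EtBC.bcMap
  rw [Equiv.symm_apply_eq, Adjunction.homEquiv_naturality_right,
    Adjunction.homEquiv_leftAdjointUniq_hom_app, ← Adjunction.homEquiv_unit, Equiv.apply_symm_apply]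

theorem bcMap_natural (adj : EtBC.pullD g ⊣ DCoh.RpushEt S' g) {K K' : DCoh.DEt X} (φ : K ⟶ K') :
    (EtBC.pullD g).map ((DCoh.RpushEt X f).map φ) ≫ EtBC.bcMap f g f' g' w adj K' =
      EtBC.bcMap f g f' g' w adj K ≫ (DCoh.RpushEt X' f').map ((EtBC.pullD g').map φ) := by
  unfold EtBC.bcMap
  rw [← Adjunction.homEquiv_naturality_left_symm, ← Adjunction.homEquiv_naturality_right_symm,
    NatTrans.naturality]
  rfl

theorem bcAdj_rep (K : HomotopyCategory (EtCoh.Ab X) (ComplexShape.up ℤ)) :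
    (uR f).app K ≫ (EtBC.bcAdj f g f' g' w).app (Qh.obj K) ≫
        (DCoh.RpushEt S' g).map ((DCoh.RpushEt X' f').map ((fac g').hom.app K)) =
      Qh.map ((EtBC.pushToPushPullH f g f' g' w).app K) ≫
        (uR g).app (((EtCoh.push f').mapHomotopyCategory (ComplexShape.up ℤ)).obj
          (((EtCoh.pull g').mapHomotopyCategory (ComplexShape.up ℤ)).obj K)) ≫
        (DCoh.RpushEt S' g).map ((uR f').app (((EtCoh.pull g').mapHomotopyCategory (ComplexShape.up ℤ)).obj K)) := by
  have h1 := Functor.rightDerived_fac_app (DCoh.RpushEt X f) (uR f)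
    (HomotopyCategory.quasiIso (EtCoh.Ab X) (ComplexShape.up ℤ))
    (EtBC.pullD g' ⋙ DCoh.RpushEt X' f' ⋙ DCoh.RpushEt S' g) (EtBC.bcUnit f g f' g' w) K
  refine (Category.assoc _ _ _).symm.trans ((congrArg (· ≫ _) h1).trans ?_)
  simp [EtBC.bcUnit, uR, fac, ← Functor.map_comp]

theorem counit_ppH {I : CochainComplex (EtCoh.Ab X) ℤ} {J : CochainComplex (EtCoh.Ab X') ℤ}
    (s : ((EtCoh.pull g').mapHomologicalComplex (ComplexShape.up ℤ)).obj I ⟶ J) :
    ((EtCoh.pull g).mapHomotopyCategory (ComplexShape.up ℤ)).map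
        ((EtBC.pushToPushPullH f g f' g' w).app ((qh X).obj I)) ≫
      (KInj.mapHomotopyCategoryAdj (EtCoh.pullPushAdj g) (ComplexShape.up ℤ)).counit.app
        (((EtCoh.push f').mapHomotopyCategory (ComplexShape.up ℤ)).obj
          (((EtCoh.pull g').mapHomotopyCategory (ComplexShape.up ℤ)).obj ((qh X).obj I))) ≫
        ((EtCoh.push f').mapHomotopyCategory (ComplexShape.up ℤ)).map ((qh X').map s) =
      (qh S').map (bcCx f g f' g' w s) := by
  let K := (qh X).obj I
  let N := ((EtCoh.pull g').mapHomotopyCategory (ComplexShape.up ℤ)).obj K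
  let M := ((EtCoh.push f').mapHomotopyCategory (ComplexShape.up ℤ)).obj N
  let pp := (EtBC.pushToPushPullH f g f' g' w).app K
  let c := (KInj.mapHomotopyCategoryAdj (EtCoh.pullPushAdj g) (ComplexShape.up ℤ)).counit.app M
  let φ : ((EtCoh.push f).mapHomologicalComplex (ComplexShape.up ℤ)).obj I ⟶
      ((EtCoh.push g).mapHomologicalComplex (ComplexShape.up ℤ)).obj (((EtCoh.push f').mapHomologicalComplex
        (ComplexShape.up ℤ)).obj (((EtCoh.pull g').mapHomologicalComplex (ComplexShape.up ℤ)).obj I)) :=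
    (NatTrans.mapHomologicalComplex (EtBC.pushToPushPull f g f' g' w) (ComplexShape.up ℤ)).app I
  have hpp : pp = (qh S).map φ := by
    show (EtBC.pushToPushPullH f g f' g' w).app K = _
    show (qh S).map φ ≫
        (qh S).map ((Functor.mapHomologicalComplexCompIso
          (Iso.refl (EtCoh.pull g' ⋙ EtCoh.push f' ⋙ EtCoh.push g)) (ComplexShape.up ℤ)).inv.app I) ≫
        (qh S).map ((Functor.mapHomologicalComplexCompIso
          (Iso.refl (EtCoh.push f' ⋙ EtCoh.push g)) (ComplexShape.up ℤ)).inv.app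
            (((EtCoh.pull g').mapHomologicalComplex (ComplexShape.up ℤ)).obj I)) = _
    rw [← Functor.map_comp, ← Functor.map_comp]
    refine congrArg (qh S).map (HomologicalComplex.hom_ext _ _ fun n => ?_)
    simp [φ, Functor.mapHomologicalComplexCompIso]
    try rfl
  show ((EtCoh.pull g).mapHomotopyCategory (ComplexShape.up ℤ)).map pp ≫ c ≫ _ = _
  rw [hpp]
  refine Eq.trans ?_ (congrArg (qh S').map (show ((EtCoh.pull g).mapHomologicalComplex (ComplexShape.up ℤ)).map φ ≫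
    (KInj.mapHomologicalComplexAdj (EtCoh.pullPushAdj g) (ComplexShape.up ℤ)).counit.app _ ≫
    ((EtCoh.push f').mapHomologicalComplex (ComplexShape.up ℤ)).map s = bcCx f g f' g' w s from ?_))
  · rw [Functor.map_comp, Functor.map_comp]
    rfl
  refine HomologicalComplex.hom_ext _ _ fun n => ?_
  show (EtCoh.pull g).map ((EtBC.pushToPushPull f g f' g' w).app (I.X n)) ≫
    (EtCoh.pullPushAdj g).counit.app _ ≫ (EtCoh.push f').map (s.f n) =
      EtCoh.baseChange0 f g f' g' w (I.X n) ≫ (EtCoh.push f').map (s.f n)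
  rw [← Category.assoc]
  refine congrArg (· ≫ _) ?_
  rw [EtCoh.baseChange0, Adjunction.homEquiv_counit]
  simp [EtBC.pushToPushPull]


/-- the base change map at a K-injective complex -/
theorem bcMap_rep (adj₀ : EtBC.pullD g ⊣ DCoh.RpushEt S' g)
    (h₀ : ∀ M : HomotopyCategory (EtCoh.Ab S') (ComplexShape.up ℤ),
      (EtBC.pullD g).map ((uR g).app M) ≫ adj₀.counit.app (Qh.obj M) =
        (fac g).hom.app (((EtCoh.push g).mapHomotopyCategory (ComplexShape.up ℤ)).obj M) ≫
          Qh.map ((KInj.mapHomotopyCategoryAdj (EtCoh.pullPushAdj g) (ComplexShape.up ℤ)).counit.app M))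
    {I : CochainComplex (EtCoh.Ab X) ℤ} {J : CochainComplex (EtCoh.Ab X') ℤ}
    (s : ((EtCoh.pull g').mapHomologicalComplex (ComplexShape.up ℤ)).obj I ⟶ J) :
    (EtBC.pullD g).map ((uR f).app ((qh X).obj I)) ≫ EtBC.bcMap f g f' g' w adj₀ (Qh.obj ((qh X).obj I)) ≫
        (DCoh.RpushEt X' f').map ((fac g').hom.app ((qh X).obj I) ≫ Qh.map ((qh X').map s)) =
      (fac g).hom.app ((qh S).obj (((EtCoh.push f).mapHomologicalComplex (ComplexShape.up ℤ)).obj I)) ≫
        Qh.map ((qh S').map (bcCx f g f' g' w s)) ≫ (uR f').app ((qh X').obj J) := by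
  unfold EtBC.bcMap
  exact transpose_rep adj₀ DerivedCategory.Qh DerivedCategory.Qh
    ((EtCoh.pull g).mapHomotopyCategory (ComplexShape.up ℤ)) ((EtCoh.push g).mapHomotopyCategory (ComplexShape.up ℤ))
    (fac g) ((EtCoh.push f').mapHomotopyCategory (ComplexShape.up ℤ)) DerivedCategory.Qh (DCoh.RpushEt X' f') (uR f')
    ((qh X').map s) ((EtBC.pushToPushPullH f g f' g' w).app ((qh X).obj I)) _ _ (h₀ _)
    ((uR f).app ((qh X).obj I)) ((EtBC.bcAdj f g f' g' w).app (Qh.obj ((qh X).obj I)))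
    ((fac g').hom.app ((qh X).obj I)) (bcAdj_rep f g f' g' w ((qh X).obj I))
    ((qh S').map (bcCx f g f' g' w s)) (counit_ppH f g f' g' w s)

end Groth.Agent.EtBCBridge
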