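import Groth.Agent.EtBCBridge.Derived
import Mathlib

/-! The homology of the derived base change map of a sheaf is the base change map in that degree. -/

set_option autoImplicit false
set_option backward.isDefEq.respectTransparency false
set_option backward.isDefEq.respectTransparency.types false
set_option linter.style.haveILetI false
set_option linter.unusedSectionVars false
set_option linter.overlappingInstances false
set_option maxHeartbeats 1000000

universe u

open CategoryTheory CategoryTheory.Limits AlgebraicGeometry Opposite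

attribute [local instance] HasDerivedCategory.standard

noncomputable section

namespace Groth.Agent.EtBCBridge

open DerivedCategory (Q Qh homologyFunctor)

theorem iff_of_eq_comp {C : Type*} [Category* C] (P : MorphismProperty C) [P.RespectsIso] {A A' B B' : C}
    {a : A ⟶ B} {b : A' ⟶ B'} (i : A' ⟶ A) [IsIso i] (j : B ⟶ B') [IsIso j] (h : i ≫ a ≫ j = b) : P a ↔ P b := by
  subst h
  rw [P.cancel_left_of_respectsIso, P.cancel_right_of_respectsIso]

theorem homology_qh_iff {A : Type*} [Category* A] [Abelian A] [HasDerivedCategory A] (P : MorphismProperty A)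
    [P.RespectsIso] {K L : CochainComplex A ℤ} (φ : K ⟶ L) (i : ℤ) :
    P ((homologyFunctor A i).map (Qh.map ((HomotopyCategory.quotient A (ComplexShape.up ℤ)).map φ))) ↔
      P (HomologicalComplex.homologyMap φ i) :=
  (P.arrow_mk_iso_iff (Arrow.isoMk
    ((homologyFunctor A i).mapIso ((DerivedCategory.quotientCompQhIso A).app K) ≪≫
      (DerivedCategory.homologyFunctorFactors A i).app K)
    ((homologyFunctor A i).mapIso ((DerivedCategory.quotientCompQhIso A).app L) ≪≫
      (DerivedCategory.homologyFunctorFactors A i).app L) (by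
    have h1 := congrArg (homologyFunctor A i).map ((DerivedCategory.quotientCompQhIso A).hom.naturality φ)
    have h2 := (DerivedCategory.homologyFunctorFactors A i).hom.naturality φ
    simp only [Functor.map_comp, Functor.comp_map] at h1 h2
    simp only [Arrow.mk_left, Arrow.mk_right, Arrow.mk_hom, Iso.trans_hom, Functor.mapIso_hom, Iso.app_hom,
      Category.assoc]
    rw [reassoc_of% h1, h2]
    rfl)))

variable {X S X' S' : Scheme.{u}} (f : X ⟶ S) (g : S' ⟶ S) (f' : X' ⟶ S') (g' : X' ⟶ X)
  (w : g' ≫ f = f' ≫ g)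

theorem extend_bcCx {I : CochainComplex (EtCoh.Ab X) ℕ} {J : CochainComplex (EtCoh.Ab X') ℕ}
    (s : ((EtCoh.pull g').mapHomologicalComplex (ComplexShape.up ℕ)).obj I ⟶ J) :
    bcCx f g f' g' w ((TorBalance.mapExtendIso (EtCoh.pull g') ComplexShape.embeddingUpNat I).hom ≫
        HomologicalComplex.extendMap s ComplexShape.embeddingUpNat) ≫
      (TorBalance.mapExtendIso (EtCoh.push f') ComplexShape.embeddingUpNat J).hom =
    ((EtCoh.pull g).mapHomologicalComplex (ComplexShape.up ℤ)).map
        (TorBalance.mapExtendIso (EtCoh.push f) ComplexShape.embeddingUpNat I).hom ≫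
      (TorBalance.mapExtendIso (EtCoh.pull g) ComplexShape.embeddingUpNat _).hom ≫
      HomologicalComplex.extendMap (bcCx f g f' g' w s) ComplexShape.embeddingUpNat := by
  refine HomologicalComplex.hom_ext _ _ fun k => ?_
  by_cases hk : ∃ n, ComplexShape.embeddingUpNat.f n = k
  · obtain ⟨n, hn⟩ := hk
    let e := ComplexShape.embeddingUpNat
    change (EtCoh.baseChange0 f g f' g' w _ ≫ (EtCoh.push f').map
        ((TorBalance.mapExtendX (EtCoh.pull g') e I k).hom ≫ (HomologicalComplex.extendMap s e).f k)) ≫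
      (TorBalance.mapExtendX (EtCoh.push f') e J k).hom =
        (EtCoh.pull g).map (TorBalance.mapExtendX (EtCoh.push f) e I k).hom ≫
          (TorBalance.mapExtendX (EtCoh.pull g) e _ k).hom ≫
          (HomologicalComplex.extendMap (bcCx f g f' g' w s) e).f k
    rw [TorBalance.mapExtendX_hom (EtCoh.pull g') e I n k hn,
      TorBalance.mapExtendX_hom (EtCoh.push f') e J n k hn,
      TorBalance.mapExtendX_hom (EtCoh.push f) e I n k hn,
      TorBalance.mapExtendX_hom (EtCoh.pull g) e _ n k hn,
      HomologicalComplex.extendMap_f _ e hn, HomologicalComplex.extendMap_f _ e hn]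
    have hnat := EtIntegralBC.baseChange0_natural f g f' g' w (HomologicalComplex.extendXIso I e hn).hom
    simp only [bcCx, Functor.map_comp, Category.assoc, Iso.inv_hom_id_assoc, Iso.map_inv_hom_id_assoc]
    erw [← reassoc_of% hnat]
  · exact (HomologicalComplex.isZero_extend_X _ _ k fun n hn => hk ⟨n, hn⟩).eq_of_tgt _ _

variable [PreservesFiniteLimits (EtCoh.pull g)] [PreservesFiniteLimits (EtCoh.pull g')]
  [DCoh.HasRpushEt X f] [DCoh.HasRpushEt X' f'] [DCoh.HasRpushEt S' g]

/-- the derived base change map of a sheaf, on resolutions -/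
theorem homology_bcMap_iff (P : MorphismProperty (EtCoh.Ab S')) [P.RespectsIso]
    (adj : EtBC.pullD g ⊣ DCoh.RpushEt S' g) (F : EtCoh.Ab X) (R : InjectiveResolution F)
    (R' : InjectiveResolution ((EtCoh.pull g').obj F))
    (s : ((EtCoh.pull g').mapHomologicalComplex (ComplexShape.up ℕ)).obj R.cocomplex ⟶ R'.cocomplex) [QuasiIso s]
    (i : ℤ) :
    P ((homologyFunctor (EtCoh.Ab S') i).map (EtBC.bcMap f g f' g' w adj (EtBC.single X F))) ↔
      P (HomologicalComplex.homologyMap
        (HomologicalComplex.extendMap (bcCx f g f' g' w s) ComplexShape.embeddingUpNat) i) := by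
  haveI : R.cochainComplex.IsKInjective := CochainComplex.isKInjective_of_injective _ 0
  haveI : R'.cochainComplex.IsKInjective := CochainComplex.isKInjective_of_injective _ 0
  let e := ComplexShape.embeddingUpNat
  let s' : ((EtCoh.pull g').mapHomologicalComplex (ComplexShape.up ℤ)).obj R.cochainComplex ⟶ R'.cochainComplex :=
    (TorBalance.mapExtendIso (EtCoh.pull g') e R.cocomplex).hom ≫ HomologicalComplex.extendMap s e
  haveI : QuasiIso (HomologicalComplex.extendMap s e) := (HomologicalComplex.quasiIso_extendMap_iff s e).2 inferInstance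
  haveI : QuasiIso s' := inferInstance
  obtain ⟨adj₀, h₀⟩ := exists_adj g
  let K := (qh X).obj R.cochainComplex
  let φ : EtBC.single X F ≅ Qh.obj K :=
    (DerivedCategory.singleFunctorIsoCompQ (EtCoh.Ab X) 0).app F ≪≫ asIso (Q.map R.ι') ≪≫
      ((DerivedCategory.quotientCompQhIso (EtCoh.Ab X)).app R.cochainComplex).symm
  let H := homologyFunctor (EtCoh.Ab S') i
  haveI := RPlusComp.isIso_totalRightDerivedUnit f K ‹R.cochainComplex.IsKInjective›
  haveI := RPlusComp.isIso_totalRightDerivedUnit f' ((qh X').obj R'.cochainComplex) ‹R'.cochainComplex.IsKInjective›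
  haveI : IsIso (Qh.map ((qh X').map s')) :=
    (NatIso.isIso_map_iff (DerivedCategory.quotientCompQhIso (EtCoh.Ab X')) s').2 inferInstance
  have h1 : P (H.map (EtBC.bcMap f g f' g' w adj (EtBC.single X F))) ↔
      P (H.map (EtBC.bcMap f g f' g' w adj (Qh.obj K))) :=
    (P.inverseImage H).arrow_mk_iso_iff (Arrow.isoMk ((EtBC.pullD g).mapIso ((DCoh.RpushEt X f).mapIso φ))
      ((DCoh.RpushEt X' f').mapIso ((EtBC.pullD g').mapIso φ)) (bcMap_natural f g f' g' w adj φ.hom))
  have h2 : P (H.map (EtBC.bcMap f g f' g' w adj (Qh.obj K))) ↔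
      P (H.map (EtBC.bcMap f g f' g' w adj₀ (Qh.obj K))) := by
    rw [bcMap_change f g f' g' w adj adj₀, Functor.map_comp, P.cancel_left_of_respectsIso]
  have h3 : P (H.map (EtBC.bcMap f g f' g' w adj₀ (Qh.obj K))) ↔
      P (H.map (Qh.map ((qh S').map (bcCx f g f' g' w s')))) := by
    have h := bcMap_rep f g f' g' w adj₀ h₀ s'
    refine (P.inverseImage H).arrow_mk_iso_iff ?_
    haveI : IsIso ((fac g').hom.app K ≫ Qh.map ((qh X').map s')) := IsIso.comp_isIso' inferInstance ‹_›
    refine Arrow.isoMk ((asIso ((EtBC.pullD g).map ((uR f).app K))).symm ≪≫ (fac g).app _)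
      (asIso ((DCoh.RpushEt X' f').map ((fac g').hom.app K ≫ Qh.map ((qh X').map s'))) ≪≫
        (asIso ((uR f').app ((qh X').obj R'.cochainComplex))).symm) ?_
    simp only [Arrow.mk_left, Arrow.mk_right, Arrow.mk_hom, Iso.trans_hom, Iso.symm_hom, asIso_inv, asIso_hom,
      Iso.app_hom, Category.assoc, IsIso.inv_comp_eq]
    refine (cancel_mono ((uR f').app ((qh X').obj R'.cochainComplex))).1 ?_
    simp only [Category.assoc, IsIso.inv_hom_id, Category.comp_id]
    exact h.symm
  rw [h1, h2, h3, homology_qh_iff P]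
  have hx := congrArg (fun m => HomologicalComplex.homologyMap m i) (extend_bcCx f g f' g' w s)
  simp only [HomologicalComplex.homologyMap_comp] at hx
  rw [← P.cancel_right_of_respectsIso _ (HomologicalComplex.homologyMap
      (TorBalance.mapExtendIso (EtCoh.push f') e R'.cocomplex).hom i),
    hx, P.cancel_left_of_respectsIso, P.cancel_left_of_respectsIso]

/-- in degree `q` the derived base change map of a sheaf is `bcQ` -/
theorem homology_bcMap_nat_iff (P : MorphismProperty (EtCoh.Ab S')) [P.RespectsIso]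
    (adj : EtBC.pullD g ⊣ DCoh.RpushEt S' g) (F : EtCoh.Ab X) (q : ℕ) :
    P ((homologyFunctor (EtCoh.Ab S') (q : ℤ)).map (EtBC.bcMap f g f' g' w adj (EtBC.single X F))) ↔
      P (EtBC.bcQ f g f' g' w q F) := by
  obtain ⟨s, hs, hbc⟩ := bcQ_eq f g f' g' w F q
  rw [homology_bcMap_iff f g f' g' w P adj F _ _ s, hbc, P.cancel_left_of_respectsIso,
    P.cancel_left_of_respectsIso, P.cancel_right_of_respectsIso]
  exact P.arrow_mk_iso_iff (Arrow.isoMk
    (HomologicalComplex.extendHomologyIso _ ComplexShape.embeddingUpNat (j := q) rfl)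
    (HomologicalComplex.extendHomologyIso _ ComplexShape.embeddingUpNat (j := q) rfl)
    (HomologicalComplex.extendHomologyIso_hom_naturality (bcCx f g f' g' w s)
      ComplexShape.embeddingUpNat (j := q) rfl).symm)

theorem isIso_homology_bcMap_iff (adj : EtBC.pullD g ⊣ DCoh.RpushEt S' g) (F : EtCoh.Ab X) (q : ℕ) :
    IsIso ((homologyFunctor (EtCoh.Ab S') (q : ℤ)).map (EtBC.bcMap f g f' g' w adj (EtBC.single X F))) ↔
      IsIso (EtBC.bcQ f g f' g' w q F) :=
  homology_bcMap_nat_iff f g f' g' w (MorphismProperty.isomorphisms _) adj F q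

theorem mono_homology_bcMap_iff (adj : EtBC.pullD g ⊣ DCoh.RpushEt S' g) (F : EtCoh.Ab X) (q : ℕ) :
    Mono ((homologyFunctor (EtCoh.Ab S') (q : ℤ)).map (EtBC.bcMap f g f' g' w adj (EtBC.single X F))) ↔
      Mono (EtBC.bcQ f g f' g' w q F) :=
  homology_bcMap_nat_iff f g f' g' w (MorphismProperty.monomorphisms _) adj F q

/-- in negative degrees the derived base change map of a sheaf is an isomorphism -/
theorem isIso_homology_bcMap_neg (adj : EtBC.pullD g ⊣ DCoh.RpushEt S' g) (F : EtCoh.Ab X) (i : ℤ) (hi : i < 0) :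
    IsIso ((homologyFunctor (EtCoh.Ab S') i).map (EtBC.bcMap f g f' g' w adj (EtBC.single X F))) := by
  obtain ⟨s, hs, -⟩ := bcQ_eq f g f' g' w F 0
  refine (homology_bcMap_iff f g f' g' w (MorphismProperty.isomorphisms _) adj F _ _ s i).2 ?_
  have hz : ∀ K : CochainComplex (EtCoh.Ab S') ℕ, IsZero ((K.extend ComplexShape.embeddingUpNat).homology i) :=
    fun K => (HomologicalComplex.exactAt_iff_isZero_homology _ i).1
      (HomologicalComplex.ExactAt.of_isZero (HomologicalComplex.isZero_extend_X _ _ i fun n hn => by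
        simp at hn; omega))
  exact ⟨0, (hz _).eq_of_src _ _, (hz _).eq_of_src _ _⟩

theorem isIso_homology_bcMap_le_iff (adj : EtBC.pullD g ⊣ DCoh.RpushEt S' g) (F : EtCoh.Ab X) (n : ℤ) :
    (∀ i : ℤ, i ≤ n → IsIso ((homologyFunctor (EtCoh.Ab S') i).map
        (EtBC.bcMap f g f' g' w adj (EtBC.single X F)))) ↔
      ∀ q : ℕ, (q : ℤ) ≤ n → IsIso (EtBC.bcQ f g f' g' w q F) := by
  refine ⟨fun h q hq => (isIso_homology_bcMap_iff f g f' g' w adj F q).1 (h q hq), fun h i hi => ?_⟩
  by_cases h0 : i < 0
  · exact isIso_homology_bcMap_neg f g f' g' w adj F i h0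
  · obtain ⟨q, rfl⟩ := Int.eq_ofNat_of_zero_le (not_lt.1 h0)
    exact (isIso_homology_bcMap_iff f g f' g' w adj F q).2 (h q hi)

end Groth.Agent.EtBCBridge
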