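import Groth.Prelude.Def_EtBC2
import Groth.Agent.W7FlatBC.Transpose
import Groth.Agent.TorBalance.MapExtend
import Groth.Agent.KInj.Adjunction
import Groth.Agent.EtIntegralBC.Counit
import Groth.Agent.EtPullExact.Basic
import Mathlib

/-! The base change map in each degree is the homology of a map of complexes. -/

set_option autoImplicit false
set_option backward.isDefEq.respectTransparency false
set_option backward.isDefEq.respectTransparency.types false
set_option linter.style.haveILetI false
set_option linter.unusedSectionVars false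
set_option maxHeartbeats 1000000

universe u

open CategoryTheory CategoryTheory.Limits AlgebraicGeometry Opposite

noncomputable section

namespace Groth.Agent.EtBCBridge

variable {X S X' S' : Scheme.{u}} (f : X ⟶ S) (g : S' ⟶ S) (f' : X' ⟶ S') (g' : X' ⟶ X)
  (w : g' ≫ f = f' ≫ g) {ι : Type*} {c : ComplexShape ι}

/-- the base change map on complexes -/
def bcCx {I : HomologicalComplex (EtCoh.Ab X) c} {J : HomologicalComplex (EtCoh.Ab X') c}
    (s : ((EtCoh.pull g').mapHomologicalComplex c).obj I ⟶ J) :
    ((EtCoh.pull g).mapHomologicalComplex c).obj (((EtCoh.push f).mapHomologicalComplex c).obj I) ⟶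
      ((EtCoh.push f').mapHomologicalComplex c).obj J where
  f n := EtCoh.baseChange0 f g f' g' w (I.X n) ≫ (EtCoh.push f').map (s.f n)
  comm' i j _ := by
    have h := congrArg (EtCoh.push f').map (s.comm i j)
    simp only [Functor.map_comp, Functor.mapHomologicalComplex_obj_d] at h ⊢
    rw [Category.assoc, h]
    exact (Category.assoc _ _ _).symm.trans ((congrArg (· ≫ (EtCoh.push f').map (s.f j))
      (EtIntegralBC.baseChange0_natural f g f' g' w (I.d i j)).symm).trans (Category.assoc _ _ _))

theorem bcQ_eq [PreservesFiniteLimits (EtCoh.pull g')] [(EtCoh.pull g).PreservesHomology]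
    (F : EtCoh.Ab X) (q : ℕ) :
    ∃ s : ((EtCoh.pull g').mapHomologicalComplex (ComplexShape.up ℕ)).obj
        (injectiveResolution F).cocomplex ⟶ (injectiveResolution ((EtCoh.pull g').obj F)).cocomplex,
      QuasiIso s ∧ EtBC.bcQ f g f' g' w q F =
        (EtCoh.pull g).map ((injectiveResolution F).isoRightDerivedObj (EtCoh.push f) q).hom ≫
          ((((EtCoh.push f).mapHomologicalComplex (ComplexShape.up ℕ)).obj
            (injectiveResolution F).cocomplex).sc q |>.mapHomologyIso (EtCoh.pull g)).inv ≫
          HomologicalComplex.homologyMap (bcCx f g f' g' w s) q ≫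
          ((injectiveResolution ((EtCoh.pull g').obj F)).isoRightDerivedObj (EtCoh.push f') q).inv := by
  let R := injectiveResolution F
  let N := (EtCoh.pull g').obj F
  let J := injectiveResolution N
  let P' := EtCoh.push g'
  let adj' := EtCoh.pullPushAdj g'
  let Kr := injectiveResolution (P'.obj N)
  let η := adj'.unit.app F
  let a : R.cocomplex ⟶ Kr.cocomplex := InjectiveResolution.desc η Kr R
  let b : Kr.cocomplex ⟶ (P'.mapHomologicalComplex (ComplexShape.up ℕ)).obj J.cocomplex :=
    RDer.descToInjectives (𝟙 (P'.obj N)) Kr.cocomplex Kr.ι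
      ((P'.mapHomologicalComplex _).obj J.cocomplex) (RDer.mapAug P' J.ι)
  let A := KInj.mapHomologicalComplexAdj adj' (ComplexShape.up ℕ)
  let s := (A.homEquiv R.cocomplex J.cocomplex).symm (a ≫ b)
  refine ⟨s, ?_, ?_⟩
  · have hcomm : RDer.mapAug (EtCoh.pull g') R.ι ≫ s = J.ι := by
      refine HomologicalComplex.from_single_hom_ext ?_
      have h0 : R.ι.f 0 ≫ (a ≫ b).f 0 = η ≫ (RDer.mapAug P' J.ι).f 0 := by
        have h1 : Kr.ι.f 0 ≫ b.f 0 = (RDer.mapAug P' J.ι).f 0 :=
          (RDer.ι_descToInjectives_f_zero _ _ _ _ _).trans (Category.id_comp _)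
        rw [HomologicalComplex.comp_f, ← Category.assoc,
          show R.ι.f 0 ≫ a.f 0 = η ≫ Kr.ι.f 0 from InjectiveResolution.desc_commutes_zero η Kr R,
          Category.assoc, h1]
      simp only [RDer.mapAug, HomologicalComplex.comp_f, Functor.mapHomologicalComplex_map_f,
        HomologicalComplex.singleMapHomologicalComplex_inv_app_self] at h0 ⊢
      change (_ ≫ (EtCoh.pull g').map (R.ι.f 0)) ≫ (adj'.homEquiv _ _).symm ((a ≫ b).f 0) = _
      rw [Category.assoc, ← adj'.homEquiv_naturality_left_symm, HomologicalComplex.comp_f, h0]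
      simp [η, Adjunction.homEquiv_counit, P']
      exact adj'.left_triangle_components_assoc F _
    haveI : QuasiIso (RDer.mapAug (EtCoh.pull g') R.ι) := inferInstance
    haveI : QuasiIso (RDer.mapAug (EtCoh.pull g') R.ι ≫ s) := by rw [hcomm]; infer_instance
    exact quasiIso_of_comp_left (RDer.mapAug (EtCoh.pull g') R.ι) s
  · let E := EtCoh.pushComp f g' ≪≫ EtCoh.pushCongr w ≪≫ (EtCoh.pushComp g f').symm
    let adj := EtCoh.pullPushAdj g
    let φ : ((EtCoh.push f).mapHomologicalComplex _).obj R.cocomplex ⟶
        ((EtCoh.push g).mapHomologicalComplex _).obj (((EtCoh.push f').mapHomologicalComplex _).obj J.cocomplex) :=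
      ((EtCoh.push f).mapHomologicalComplex _).map (a ≫ b) ≫
        (NatTrans.mapHomologicalComplex E.hom (ComplexShape.up ℕ)).app J.cocomplex
    have hadj : EtBC.bcQAdj f g f' g' w q F =
        (R.isoRightDerivedObj (EtCoh.push f) q).hom ≫
          (HomologicalComplex.homologyMap φ q ≫ RDer.homologyComparison (EtCoh.push g) _ q) ≫
          (EtCoh.push g).map (J.isoRightDerivedObj (EtCoh.push f') q).inv := by
      change ((EtCoh.push f).rightDerived q).map η ≫ RDer.edgeIn P' (EtCoh.push f) q N ≫
        (NatTrans.rightDerived E.hom q).app N ≫ RDer.edgeOut (EtCoh.push f') (EtCoh.push g) q N = _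
      rw [Functor.rightDerived_map_eq (EtCoh.push f) q η a (InjectiveResolution.desc_commutes η Kr R),
        InjectiveResolution.rightDerived_app_eq E.hom J q]
      simp only [RDer.edgeIn, RDer.edgeOut, Category.assoc]
      erw [Iso.inv_hom_id_assoc, Iso.inv_hom_id_assoc, Iso.inv_hom_id_assoc]
      simp only [φ, HomologicalComplex.homologyMap_comp, Functor.map_comp, Category.assoc]
      rfl
    have hsn : ∀ n, (adj.homEquiv _ _).symm (φ.f n) = (bcCx f g f' g' w s).f n := fun n => by
      change (adj.homEquiv _ _).symm ((EtCoh.push f).map ((a ≫ b).f n) ≫ E.hom.app (J.cocomplex.X n)) =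
        EtCoh.baseChange0 f g f' g' w (R.cocomplex.X n) ≫ (EtCoh.push f').map (s.f n)
      have hs : adj'.homEquiv _ _ (s.f n) = (a ≫ b).f n :=
        congrArg (fun k : R.cocomplex ⟶ (P'.mapHomologicalComplex _).obj J.cocomplex => k.f n)
          ((A.homEquiv R.cocomplex J.cocomplex).apply_symm_apply (a ≫ b))
      rw [EtCoh.baseChange0, ← adj.homEquiv_naturality_right_symm, ← hs,
        Adjunction.homEquiv_unit, Functor.map_comp, Category.assoc, Category.assoc, Category.assoc, Category.assoc]
      exact congrArg (fun k => (adj.homEquiv _ _).symm (_ ≫ k)) ((E.hom.naturality (s.f n)).trans (by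
        simp [E, Category.assoc]; rfl))
    rw [EtBC.bcQ, hadj]
    refine (adj.homEquiv_naturality_left_symm _ _).trans ?_
    refine congrArg ((EtCoh.pull g).map (R.isoRightDerivedObj (EtCoh.push f) q).hom ≫ ·) ?_
    refine (adj.homEquiv_naturality_right_symm _ _).trans ?_
    exact (congrArg (· ≫ (J.isoRightDerivedObj (EtCoh.push f') q).inv)
      (W7FlatBC.symm_homologyMap_comparison adj φ (bcCx f g f' g' w s) hsn q)).trans (Category.assoc _ _ _)

end Groth.Agent.EtBCBridge
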